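import Mathlib

/-!
# Homogeneous localisation inside the localisation: purity and lifting of primes
-/

universe u


namespace Groth.Agent.HomLoc29

variable {A : Type u} [CommRing A] {σ : Type*} [SetLike σ A] [AddSubgroupClass σ A] (𝒜 : ℕ → σ)
  [GradedRing 𝒜] (p : Ideal A) [p.IsPrime]

local notation "R₀" => HomogeneousLocalization.AtPrime 𝒜 p
local notation "S₀" => Localization.AtPrime p

open HomogeneousLocalization

theorem exists_component_notMem {s : A} (hs : s ∉ p) : ∃ n, GradedRing.proj 𝒜 n s ∉ p := by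
  classical
  by_contra h
  push Not at h
  refine hs ?_
  rw [← DirectSum.sum_support_decompose 𝒜 s]
  exact sum_mem fun n _ => by simpa [GradedRing.proj_apply] using h n

/-- The image of a fraction in the localisation. -/
theorem algebraMap_mk (c : NumDenSameDeg 𝒜 p.primeCompl) :
    algebraMap R₀ S₀ (mk c) = IsLocalization.mk' S₀ (c.num : A) (⟨c.den, c.den_mem⟩ : p.primeCompl) := by
  rw [HomogeneousLocalization.algebraMap_apply, val_mk, Localization.mk_eq_mk']

theorem algebraMap_mk_mem_iff {I : Ideal S₀} (c : NumDenSameDeg 𝒜 p.primeCompl) :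
    algebraMap R₀ S₀ (mk c) ∈ I ↔ (c.num : A) ∈ I.comap (algebraMap A S₀) := by
  rw [algebraMap_mk, Ideal.mem_comap, IsLocalization.mk'_mem_iff]

/-- Ideals of the homogeneous localisation are contracted. -/
theorem mem_of_mem_map {I : Ideal R₀} {x : R₀}
    (h : algebraMap R₀ S₀ x ∈ I.map (algebraMap R₀ S₀)) : x ∈ I := by
  classical
  let gens : Set A := {a | ∃ c : NumDenSameDeg 𝒜 p.primeCompl, mk c ∈ I ∧ (c.num : A) = a}
  let J : Ideal A := Ideal.span gens
  have hJ : ∀ a ∈ J, ∀ (n k : ℕ) (r : 𝒜 k) (t : 𝒜 (k + n)) (ht : (t : A) ∈ p.primeCompl),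
      mk ⟨k + n, ⟨(r : A) * GradedRing.proj 𝒜 n a,
        SetLike.mul_mem_graded r.2 (by simp [GradedRing.proj_apply])⟩, t, ht⟩ ∈ I := by
    intro a ha
    induction ha using Submodule.span_induction with
    | mem a ha =>
      obtain ⟨c, hc, rfl⟩ := ha
      intro n k r t ht
      by_cases hn : n = c.deg
      · subst hn
        have e : mk (𝒜 := 𝒜) (x := p.primeCompl)
            ⟨k + c.deg, ⟨(r : A) * GradedRing.proj 𝒜 c.deg c.num,
              SetLike.mul_mem_graded r.2 (by simp [GradedRing.proj_apply])⟩, t, ht⟩ =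
            mk ⟨k + c.deg, ⟨(r : A) * c.den, SetLike.mul_mem_graded r.2 c.den.2⟩, t, ht⟩ * mk c := by
          apply val_injective
          simp only [val_mul, val_mk, Localization.mk_mul, Localization.mk_eq_mk_iff, Localization.r_iff_exists]
          refine ⟨1, ?_⟩
          simp [GradedRing.proj_apply]
          ring
        rw [e]
        exact I.mul_mem_left _ hc
      · rw [mk_eq_zero_of_num]
        · exact I.zero_mem
        · refine Subtype.ext ?_
          simp only [GradedRing.proj_apply, DirectSum.decompose_of_mem_ne 𝒜 c.num.2 (Ne.symm hn),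
            mul_zero, ZeroMemClass.coe_zero]
    | zero =>
      intro n k r t ht
      rw [mk_eq_zero_of_num]
      · exact I.zero_mem
      · exact Subtype.ext (by simp)
    | add a b _ _ ha hb =>
      intro n k r t ht
      convert I.add_mem (ha n k r t ht) (hb n k r t ht) using 1
      apply val_injective
      simp only [val_add, val_mk, map_add, mul_add, Localization.add_mk_self]
    | smul r' a _ ha =>
      induction r' using DirectSum.Decomposition.inductionOn 𝒜 with
      | zero =>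
        intro n k r t ht
        rw [mk_eq_zero_of_num]
        · exact I.zero_mem
        · exact Subtype.ext (by simp)
      | add r' s hr hs =>
        intro n k r t ht
        convert I.add_mem (hr n k r t ht) (hs n k r t ht) using 1
        apply val_injective
        simp only [val_add, val_mk, map_add, add_smul, mul_add, Localization.add_mk_self]
      | @homogeneous i r' =>
        intro n k r t ht
        by_cases hi : i ≤ n
        · have hd : k + n = (k + i) + (n - i) := by omega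
          have hr : (r : A) * (r' : A) ∈ 𝒜 (k + i) := SetLike.mul_mem_graded r.2 r'.2
          convert ha (n - i) (k + i) ⟨_, hr⟩ ⟨t, hd ▸ t.2⟩ ht using 1
          apply val_injective
          simp only [val_mk, GradedRing.proj_apply, mul_assoc, smul_eq_mul,
            DirectSum.coe_decompose_mul_of_left_mem_of_le 𝒜 r'.2 hi]
        · rw [mk_eq_zero_of_num]
          · exact I.zero_mem
          · refine Subtype.ext ?_
            simp only [GradedRing.proj_apply, smul_eq_mul,
              DirectSum.coe_decompose_mul_of_left_mem_of_not_le 𝒜 r'.2 hi, mul_zero, ZeroMemClass.coe_zero]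
  obtain ⟨c, rfl⟩ := mk_surjective x
  have hle : I.map (algebraMap R₀ S₀) ≤ J.map (algebraMap A S₀) := Ideal.map_le_iff_le_comap.2 fun y hy => by
    obtain ⟨d, rfl⟩ := mk_surjective y
    rw [Ideal.mem_comap, algebraMap_mk, IsLocalization.mk'_mem_iff]
    exact Ideal.mem_map_of_mem _ (Ideal.subset_span ⟨d, hy, rfl⟩)
  have h' := hle h
  rw [algebraMap_mk, IsLocalization.mk'_mem_iff] at h'
  obtain ⟨s, hs, hsJ⟩ := (IsLocalization.algebraMap_mem_map_algebraMap_iff p.primeCompl S₀ J _).1 h'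
  obtain ⟨n, hn⟩ := exists_component_notMem 𝒜 p hs
  have hden : GradedRing.proj 𝒜 n s * (c.den : A) ∈ 𝒜 (0 + (n + c.deg)) := by
    rw [zero_add]
    exact SetLike.mul_mem_graded (by simp [GradedRing.proj_apply]) c.den.2
  convert hJ _ hsJ (n + c.deg) 0 ⟨1, SetLike.one_mem_graded 𝒜⟩ ⟨_, hden⟩ (mul_mem hn c.den_mem) using 1
  apply val_injective
  simp only [val_mk, Localization.mk_eq_mk_iff, Localization.r_iff_exists]
  refine ⟨1, ?_⟩
  simp only [GradedRing.proj_apply, DirectSum.coe_decompose_mul_add_of_right_mem 𝒜 c.num.2,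
    OneMemClass.coe_one, one_mul]
  ring

theorem comap_map_eq (I : Ideal R₀) : (I.map (algebraMap R₀ S₀)).comap (algebraMap R₀ S₀) = I :=
  le_antisymm (fun _ hx => mem_of_mem_map 𝒜 p hx) Ideal.le_comap_map

theorem isNoetherianRing [IsNoetherianRing A] : IsNoetherianRing R₀ := by
  haveI : IsNoetherianRing S₀ := IsLocalization.isNoetherianRing p.primeCompl S₀ inferInstance
  refine ⟨fun I => ?_⟩
  have hinj : Function.Injective (Ideal.map (algebraMap R₀ S₀)) := fun I J h => by
    rw [← comap_map_eq 𝒜 p I, h, comap_map_eq]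
  have hwf : WellFoundedGT (Ideal R₀) :=
    StrictMono.wellFoundedGT (f := Ideal.map (algebraMap R₀ S₀))
      (Monotone.strictMono_of_injective (fun _ _ h => Ideal.map_mono h) hinj)
  exact (isNoetherian_iff'.2 hwf).noetherian I

variable {𝒜 p}

/-- The homogeneous core of the trace on `A` of a prime of the localisation. -/
noncomputable def core (Q : Ideal S₀) : Ideal A := ((Q.comap (algebraMap A S₀)).homogeneousCore 𝒜).toIdeal

variable (hf : ∃ d, 0 < d ∧ ∃ f ∈ 𝒜 d, f ∉ p)

theorem core_prime (Q : Ideal S₀) [Q.IsPrime] :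
    (core (𝒜 := 𝒜) Q).IsPrime ∧ core (𝒜 := 𝒜) Q ≤ p ∧
      ((core (𝒜 := 𝒜) Q).map (algebraMap A S₀)).IsPrime ∧
      ((core (𝒜 := 𝒜) Q).map (algebraMap A S₀)).comap (algebraMap A S₀) = core (𝒜 := 𝒜) Q := by
  have h1 : (core (𝒜 := 𝒜) Q).IsPrime := Ideal.IsPrime.homogeneousCore inferInstance
  have h2 : core (𝒜 := 𝒜) Q ≤ p := (Ideal.toIdeal_homogeneousCore_le 𝒜 _).trans
    ((Ideal.comap_mono (IsLocalRing.le_maximalIdeal (Ideal.IsPrime.ne_top ‹_›))).trans
      Localization.AtPrime.under_maximalIdeal.le)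
  have h3 : Disjoint (p.primeCompl : Set A) (core (𝒜 := 𝒜) Q : Set A) :=
    Set.disjoint_left.2 fun a ha ha' => ha (h2 ha')
  exact ⟨h1, h2, IsLocalization.isPrime_of_isPrime_disjoint p.primeCompl S₀ _ h1 h3,
    IsLocalization.under_map_of_isPrime_disjoint p.primeCompl S₀ h1 h3⟩

include hf in
theorem core_le {Q Q' : Ideal S₀} [Q.IsPrime] [Q'.IsPrime]
    (h : Q.comap (algebraMap R₀ S₀) ≤ Q'.comap (algebraMap R₀ S₀)) :
    core (𝒜 := 𝒜) Q ≤ core (𝒜 := 𝒜) Q' := by
  obtain ⟨d, hd, f, hf, hfp⟩ := hf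
  refine (Ideal.homogeneousCore 𝒜 _).isHomogeneous.toIdeal_homogeneousCore_eq_self.ge.trans ?_
  refine Ideal.span_le.2 ?_
  rintro _ ⟨⟨x, i, hx⟩, hxQ, rfl⟩
  refine Ideal.mem_homogeneousCore_of_homogeneous_of_mem ⟨i, hx⟩ ?_
  have hxQ' : x ∈ Q.comap (algebraMap A S₀) := Ideal.toIdeal_homogeneousCore_le 𝒜 _ hxQ
  have e1 : x ^ d ∈ 𝒜 (d * i) := by simpa using SetLike.pow_mem_graded d hx
  have e2 : f ^ i ∈ 𝒜 (d * i) := by simpa [mul_comm] using SetLike.pow_mem_graded i hf
  let c : NumDenSameDeg 𝒜 p.primeCompl :=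
    ⟨d * i, ⟨x ^ d, e1⟩, ⟨f ^ i, e2⟩, pow_mem (show f ∈ p.primeCompl from hfp) i⟩
  have hQ : algebraMap R₀ S₀ (mk c) ∈ Q := (algebraMap_mk_mem_iff 𝒜 p c).2 (Ideal.pow_mem_of_mem _ hxQ' d hd)
  exact Ideal.IsPrime.mem_of_pow_mem inferInstance d ((algebraMap_mk_mem_iff 𝒜 p c).1 (h hQ))

theorem comap_map_core (Q : Ideal S₀) [Q.IsPrime] :
    ((core (𝒜 := 𝒜) Q).map (algebraMap A S₀)).comap (algebraMap R₀ S₀) = Q.comap (algebraMap R₀ S₀) := by
  ext y
  obtain ⟨c, rfl⟩ := mk_surjective y
  rw [Ideal.mem_comap, Ideal.mem_comap, algebraMap_mk_mem_iff, algebraMap_mk_mem_iff,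
    (core_prime (𝒜 := 𝒜) Q).2.2.2]
  exact ⟨fun h => Ideal.toIdeal_homogeneousCore_le 𝒜 _ h,
    fun h => Ideal.mem_homogeneousCore_of_homogeneous_of_mem ⟨c.deg, c.num.2⟩ h⟩

include hf in
/-- The least prime above a prime of the homogeneous localisation. -/
theorem exists_lift (q : Ideal R₀) [q.IsPrime] :
    ∃ P : Ideal S₀, P.IsPrime ∧ P.comap (algebraMap R₀ S₀) = q ∧
      ∀ (Q : Ideal S₀) [Q.IsPrime], q ≤ Q.comap (algebraMap R₀ S₀) → P ≤ Q := by
  obtain ⟨Q₀, hQ₀, hQ₀'⟩ := (Ideal.comap_map_eq_self_iff_of_isPrime q).1 (comap_map_eq 𝒜 p q)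
  refine ⟨(core (𝒜 := 𝒜) Q₀).map (algebraMap A S₀), (core_prime Q₀).2.2.1,
    (comap_map_core Q₀).trans hQ₀', fun Q _ hle => Ideal.map_le_iff_le_comap.2 ?_⟩
  exact (core_le hf (hQ₀'.le.trans hle)).trans (Ideal.toIdeal_homogeneousCore_le 𝒜 _)

include hf in
/-- The maximal ideal is the only prime over the maximal ideal. -/
theorem eq_maximalIdeal (hp : p.IsHomogeneous 𝒜) {Q : Ideal S₀} [Q.IsPrime]
    (h : IsLocalRing.maximalIdeal R₀ ≤ Q.comap (algebraMap R₀ S₀)) : Q = IsLocalRing.maximalIdeal S₀ := by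
  refine le_antisymm (IsLocalRing.le_maximalIdeal (Ideal.IsPrime.ne_top ‹_›)) ?_
  rw [← Localization.AtPrime.map_eq_maximalIdeal, Ideal.map_le_iff_le_comap]
  have h1 : core (𝒜 := 𝒜) (IsLocalRing.maximalIdeal S₀) = p := by
    have h0 : (IsLocalRing.maximalIdeal S₀).comap (algebraMap A S₀) = p := Localization.AtPrime.under_maximalIdeal
    rw [core, h0, hp.toIdeal_homogeneousCore_eq_self]
  exact h1.ge.trans <| (core_le hf ((IsLocalRing.le_maximalIdeal (Ideal.IsPrime.ne_top inferInstance)).trans h)).trans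
    (Ideal.toIdeal_homogeneousCore_le 𝒜 _)

end Groth.Agent.HomLoc29
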