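import Groth.Agent.Lib.HomLoc29.Props
import Groth.Agent.Lib.Goren15.FlatLocal

/-!
# Flatness of the localisation over the homogeneous localisation when a unit of degree one exists
-/

universe u

open HomogeneousLocalization Polynomial DirectSum

set_option backward.isDefEq.respectTransparency false

noncomputable section

namespace Groth.Agent.HomLoc29

variable {A : Type u} [CommRing A] (𝒜 : ℕ → AddSubgroup A) [GradedRing 𝒜] (p : Ideal A) [p.IsPrime]
  {e : ℕ} {s s' : A} (hs : s ∈ 𝒜 e) (hs' : s' ∈ 𝒜 (e + 1)) (hsp : s ∉ p) (hs'p : s' ∉ p)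

/-- `a sⁿ / s'ⁿ` for `a` of degree `n`. -/
def degMap (n : ℕ) : 𝒜 n →+ HomogeneousLocalization.AtPrime 𝒜 p where
  toFun a := HomogeneousLocalization.mk ⟨n * (e + 1),
    ⟨(a : A) * s ^ n, by
      have h := SetLike.mul_mem_graded a.2 (SetLike.pow_mem_graded n hs)
      rwa [smul_eq_mul, show n + n * e = n * (e + 1) by ring] at h⟩,
    ⟨s' ^ n, by simpa using SetLike.pow_mem_graded n hs'⟩,
    pow_mem (show s' ∈ p.primeCompl from hs'p) n⟩
  map_zero' := mk_eq_zero_of_num _ (Subtype.ext (by simp))
  map_add' a b := val_injective _ (by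
    simp only [val_add, val_mk, AddSubgroup.coe_add, add_mul, Localization.add_mk_self])

theorem val_degMap_mul (n : ℕ) (a : 𝒜 n) :
    algebraMap (HomogeneousLocalization.AtPrime 𝒜 p) (Localization.AtPrime p) (degMap 𝒜 p hs hs' hs'p n a) *
        algebraMap A (Localization.AtPrime p) s' ^ n =
      algebraMap A (Localization.AtPrime p) a * algebraMap A (Localization.AtPrime p) s ^ n := by
  rw [← map_pow, ← map_pow, ← map_mul]
  exact (congrArg (· * _) (algebraMap_mk 𝒜 p _)).trans (IsLocalization.mk'_spec _ _ _)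

theorem isUnit_algebraMap {a : A} (ha : a ∉ p) : IsUnit (algebraMap A (Localization.AtPrime p) a) :=
  IsLocalization.map_units (Localization.AtPrime p) (⟨a, ha⟩ : p.primeCompl)

include hsp in
theorem isUnit_s : IsUnit (algebraMap A (Localization.AtPrime p) s) := isUnit_algebraMap p hsp

/-- `a ↦ (a sⁿ / s'ⁿ) Xⁿ`. -/
def toPoly : A →+* (HomogeneousLocalization.AtPrime 𝒜 p)[X] :=
  (DirectSum.toSemiring
    (fun n => (monomial n).toAddMonoidHom.comp (degMap 𝒜 p hs hs' hs'p n))
    (by
      show monomial 0 (degMap 𝒜 p hs hs' hs'p 0 _) = 1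
      rw [← C_1, ← monomial_zero_left]
      congr 1
      refine injective_algebraMap (p := p) ?_
      have h1 := val_degMap_mul 𝒜 p hs hs' hs'p 0 ⟨1, SetLike.one_mem_graded 𝒜⟩
      simp only [pow_zero, mul_one, map_one] at h1
      rw [map_one]
      exact h1)
    (fun {i j} a b => by
      show monomial (i + j) (degMap 𝒜 p hs hs' hs'p (i + j) _) =
        monomial i (degMap 𝒜 p hs hs' hs'p i a) * monomial j (degMap 𝒜 p hs hs' hs'p j b)
      rw [monomial_mul_monomial]
      congr 1
      refine injective_algebraMap (p := p) ((isUnit_algebraMap p hs'p).pow (i + j) |>.mul_left_inj.1 ?_)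
      rw [val_degMap_mul, map_mul, pow_add, pow_add,
        mul_mul_mul_comm (algebraMap (HomogeneousLocalization.AtPrime 𝒜 p) _ _),
        val_degMap_mul, val_degMap_mul,
        mul_mul_mul_comm (algebraMap A _ (a : A)), ← map_mul]
      rfl)).comp (DirectSum.decomposeRingEquiv 𝒜).toRingHom

theorem toPoly_of_mem {n : ℕ} {a : A} (ha : a ∈ 𝒜 n) :
    toPoly 𝒜 p hs hs' hs'p a = monomial n (degMap 𝒜 p hs hs' hs'p n ⟨a, ha⟩) := by
  have h : DirectSum.decomposeRingEquiv 𝒜 a = DirectSum.of (fun i => 𝒜 i) n ⟨a, ha⟩ :=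
    DirectSum.decompose_of_mem 𝒜 ha
  simp [toPoly, h]

include hs hs' hsp hs'p in
/-- A unit of degree one makes the localisation flat over the homogeneous localisation. -/
theorem flat_of_unit_degree_one :
    Module.Flat (HomogeneousLocalization.AtPrime 𝒜 p) (Localization.AtPrime p) := by
  let u : Localization.AtPrime p := IsLocalization.mk' _ s' (⟨s, hsp⟩ : p.primeCompl)
  have hu : u * algebraMap A _ s = algebraMap A _ s' := IsLocalization.mk'_spec _ _ _
  let φ : (HomogeneousLocalization.AtPrime 𝒜 p)[X] →+* Localization.AtPrime p :=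
    eval₂RingHom (algebraMap _ _) u
  have hφψ : ∀ a : A, φ (toPoly 𝒜 p hs hs' hs'p a) = algebraMap A _ a := by
    intro a
    induction a using DirectSum.Decomposition.inductionOn 𝒜 with
    | zero => simp
    | add a b ha hb => simp only [map_add, ha, hb]
    | @homogeneous n a =>
      rw [toPoly_of_mem 𝒜 p hs hs' hs'p a.2]
      refine ((isUnit_s p hsp).pow n).mul_left_inj.1 ?_
      simp only [φ, coe_eval₂RingHom, eval₂_monomial]
      rw [mul_assoc, ← mul_pow, hu, val_degMap_mul]
  let M : Submonoid (HomogeneousLocalization.AtPrime 𝒜 p)[X] :=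
    (IsUnit.submonoid (Localization.AtPrime p)).comap φ.toMonoidHom
  have hM : ∀ t : p.primeCompl, toPoly 𝒜 p hs hs' hs'p t ∈ M := fun t => by
    show IsUnit (φ (toPoly 𝒜 p hs hs' hs'p t))
    rw [hφψ]
    exact IsLocalization.map_units _ t
  let L := Localization M
  let β : A →+* L := (algebraMap _ L).comp (toPoly 𝒜 p hs hs' hs'p)
  have hβu : ∀ t : p.primeCompl, IsUnit (β t) := fun t => IsLocalization.map_units L (⟨_, hM t⟩ : M)
  let g : Localization.AtPrime p →+* L := IsLocalization.lift hβu
  have hg : ∀ a : A, g (algebraMap A _ a) = β a := IsLocalization.lift_eq hβu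
  have hgφ : g.comp φ = algebraMap _ L := by
    refine Polynomial.ringHom_ext (fun r => ?_) ?_
    · obtain ⟨c, rfl⟩ := HomogeneousLocalization.mk_surjective r
      refine (hβu ⟨c.den, c.den_mem⟩).mul_left_inj.1 ?_
      show g (φ (C (HomogeneousLocalization.mk c))) * β c.den = algebraMap _ L (C _) * β c.den
      rw [show φ (C (HomogeneousLocalization.mk c)) = algebraMap _ _ (HomogeneousLocalization.mk c) from
        eval₂_C _ _, ← hg, ← map_mul, algebraMap_mk, IsLocalization.mk'_spec, hg]
      simp only [hg, β, RingHom.comp_apply, ← map_mul]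
      congr 1
      rw [toPoly_of_mem 𝒜 p hs hs' hs'p c.num.2, toPoly_of_mem 𝒜 p hs hs' hs'p c.den.2, C_mul_monomial]
      congr 1
      refine injective_algebraMap (p := p) ((isUnit_algebraMap p hs'p).pow c.deg |>.mul_left_inj.1 ?_)
      rw [map_mul, mul_assoc, val_degMap_mul, val_degMap_mul, algebraMap_mk, ← mul_assoc,
        IsLocalization.mk'_spec]
    · refine (hβu ⟨s, hsp⟩).mul_left_inj.1 ?_
      show g (φ X) * β s = algebraMap _ L X * β s
      rw [show φ X = u from eval₂_X _ _, ← hg, ← map_mul, hu, hg]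
      simp only [hg, β, RingHom.comp_apply, ← map_mul]
      congr 1
      rw [toPoly_of_mem 𝒜 p hs hs' hs'p hs, toPoly_of_mem 𝒜 p hs hs' hs'p hs', X_mul_monomial]
      congr 1
      refine injective_algebraMap (p := p) ((isUnit_algebraMap p hs'p).pow (e + 1) |>.mul_left_inj.1 ?_)
      rw [val_degMap_mul]
      conv_rhs => rw [pow_succ, ← mul_assoc, val_degMap_mul]
      ring
  letI : Algebra (HomogeneousLocalization.AtPrime 𝒜 p)[X] (Localization.AtPrime p) := φ.toAlgebra
  haveI : IsScalarTower (HomogeneousLocalization.AtPrime 𝒜 p) (HomogeneousLocalization.AtPrime 𝒜 p)[X]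
      (Localization.AtPrime p) := IsScalarTower.of_algebraMap_eq fun r => (eval₂_C _ _).symm
  haveI : IsLocalization M (Localization.AtPrime p) :=
    { map_units := fun m => m.2
      surj := fun z => by
        obtain ⟨⟨a, t⟩, hat⟩ := IsLocalization.surj p.primeCompl z
        refine ⟨⟨toPoly 𝒜 p hs hs' hs'p a, ⟨_, hM t⟩⟩, ?_⟩
        show z * φ (toPoly 𝒜 p hs hs' hs'p t) = φ (toPoly 𝒜 p hs hs' hs'p a)
        rw [hφψ, hφψ, hat]
      exists_of_eq := fun {x y} hxy => by
        refine IsLocalization.exists_of_eq (S := L) ?_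
        rw [← hgφ, RingHom.comp_apply, RingHom.comp_apply]
        exact congrArg g hxy }
  haveI : Module.Flat (HomogeneousLocalization.AtPrime 𝒜 p)[X] (Localization.AtPrime p) :=
    IsLocalization.flat _ M
  exact Module.Flat.trans _ (HomogeneousLocalization.AtPrime 𝒜 p)[X] _

include hs hs' hsp hs'p in
theorem isGorensteinLocalRing_of_unit_degree_one [IsNoetherianRing A]
    [h : LocCoh.IsGorensteinLocalRing (Localization.AtPrime p)] :
    LocCoh.IsGorensteinLocalRing (HomogeneousLocalization.AtPrime 𝒜 p) := by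
  haveI := isNoetherianRing 𝒜 p
  haveI := flat_of_unit_degree_one 𝒜 p hs hs' hsp hs'p
  haveI : IsLocalHom (algebraMap (HomogeneousLocalization.AtPrime 𝒜 p) (Localization.AtPrime p)) :=
    ⟨fun a ha => (HomogeneousLocalization.isUnit_iff_isUnit_val 𝒜 p a).1 ha⟩
  exact ((Goren15.gorenstein_flat_local_iff _ (Localization.AtPrime p)).1 h).1

end Groth.Agent.HomLoc29
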