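import Groth.Agent.Lib.HomLoc29.Basic
import Groth.Agent.Lib.Depth.CM
import Groth.Agent.Lib.SerreCrit.Basic
import Groth.Agent.Lib.SMT.CMBasic

/-!
# Normality, `(S₁)` and Cohen–Macaulayness descend to homogeneous localisations
-/

universe u

open IsLocalRing RingTheory.Sequence
open scoped Pointwise

namespace Groth.Agent.HomLoc29

/-- `(R/I)/x ≅ R/(I + x)`. -/
noncomputable def quotSMulEquiv {R : Type u} [CommRing R] (I : Ideal R) (x : R) :
    QuotSMulTop x (R ⧸ I) ≃ₗ[R] R ⧸ (I ⊔ Ideal.span {x}) :=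
  (Submodule.quotEquivOfEq _ _ (by
    rw [← Submodule.ideal_span_singleton_smul, show (⊤ : Submodule R (R ⧸ I)) =
      (⊤ : Submodule R R).map (Submodule.mkQ I) by rw [Submodule.map_top, Submodule.range_mkQ],
      ← Submodule.map_smul'', smul_eq_mul, Ideal.mul_top, Submodule.map_sup, Submodule.mkQ_map_self,
      bot_sup_eq])).trans
    (Submodule.quotientQuotientEquivQuotient I (I ⊔ Ideal.span {x}) le_sup_left)

theorem hasSk_one_iff_ass (R : Type u) [CommRing R] [IsNoetherianRing R] :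
    LocCoh.HasSk 1 R R ↔ ∀ p ∈ associatedPrimes R R, p ∈ minimalPrimes R := by
  rw [SerreCrit.hasSk_iff_height]
  constructor
  · intro h p hp
    haveI := hp.isPrime
    rw [← Ideal.height_eq_zero_iff]
    by_contra hpos
    have h1 := h p
    rw [Nat.cast_one, min_eq_left (Order.one_le_iff_pos.2 (pos_iff_ne_zero.2 hpos))] at h1
    refine ClosedAlong.notMem_associatedPrimes_of_one_le_depth p ?_ hp
    rwa [DepthLib.depth_localizedModule_self p]
  · intro h p _
    rcases eq_or_ne p.height 0 with h0 | h0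
    · simp [h0]
    refine le_trans (min_le_left _ _) ?_
    rw [Nat.cast_one, ← DepthLib.depth_localizedModule_self p]
    exact ClosedAlong.one_le_depth_of_notMem_associatedPrimes p fun hp => h0 (Ideal.height_eq_zero_iff.2 (h p hp))

theorem hasSk_one_of_ringEquiv {R R' : Type u} [CommRing R] [IsNoetherianRing R] [CommRing R'] [IsNoetherianRing R']
    (e : R ≃+* R') (h : LocCoh.HasSk 1 R R) : LocCoh.HasSk 1 R' R' := by
  rw [hasSk_one_iff_ass] at h ⊢
  intro q hq
  obtain ⟨hqp, b, hb⟩ := isAssociatedPrime_iff.1 hq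
  haveI := hqp
  have hc : IsAssociatedPrime (q.comap e.toRingHom) R := isAssociatedPrime_iff.2
    ⟨Ideal.IsPrime.comap _, e.symm b, by
      ext x
      rw [Ideal.mem_comap, hb, Submodule.mem_colon_singleton, Submodule.mem_colon_singleton,
        Submodule.mem_bot, Submodule.mem_bot, smul_eq_mul, smul_eq_mul, ← map_eq_zero_iff e e.injective (x := x * e.symm b)]
      simp⟩
  refine ⟨⟨hqp, bot_le⟩, fun q' hq' hle => ?_⟩
  haveI := hq'.1
  exact Ideal.comap_le_comap_iff_of_surjective e.toRingHom e.surjective _ _ |>.1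
    ((h _ hc).2 ⟨Ideal.IsPrime.comap _, bot_le⟩ (Ideal.comap_mono hle))

variable {A : Type u} [CommRing A] [IsNoetherianRing A] {σ : Type*} [SetLike σ A]
  [AddSubgroupClass σ A] {𝒜 : ℕ → σ} [GradedRing 𝒜] {p : Ideal A} [p.IsPrime]
  (hf : ∃ d, 0 < d ∧ ∃ f ∈ 𝒜 d, f ∉ p)

local notation "R₀" => HomogeneousLocalization.AtPrime 𝒜 p
local notation "S₀" => Localization.AtPrime p

omit [IsNoetherianRing A] in
theorem injective_algebraMap : Function.Injective (algebraMap R₀ S₀) := fun _ _ h => by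
  rw [HomogeneousLocalization.algebraMap_apply, HomogeneousLocalization.algebraMap_apply] at h
  exact HomogeneousLocalization.val_injective _ h

omit [IsNoetherianRing A] in
theorem isDomain_and_isIntegrallyClosed (hdom : IsDomain S₀) (hic : IsIntegrallyClosed S₀) :
    IsDomain R₀ ∧ IsIntegrallyClosed R₀ := by
  have hinj := injective_algebraMap (𝒜 := 𝒜) (p := p)
  haveI : IsDomain R₀ := Function.Injective.isDomain (algebraMap R₀ S₀) hinj
  refine ⟨inferInstance, (isIntegrallyClosed_iff (FractionRing R₀)).2 fun {x} hx => ?_⟩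
  let L := FractionRing S₀
  have hL : Function.Injective ((algebraMap S₀ L).comp (algebraMap R₀ S₀)) :=
    (IsFractionRing.injective S₀ L).comp hinj
  let φ : FractionRing R₀ →+* L := IsFractionRing.lift hL
  have hφ : ∀ a, φ (algebraMap R₀ (FractionRing R₀) a) = algebraMap S₀ L (algebraMap R₀ S₀ a) :=
    IsFractionRing.lift_algebraMap hL
  have hi : IsIntegral S₀ (φ x) := by
    obtain ⟨P, hP, hPx⟩ := hx
    refine ⟨P.map (algebraMap R₀ S₀), hP.map _, ?_⟩
    rw [Polynomial.eval₂_map]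
    have := congrArg φ hPx
    rw [map_zero, Polynomial.hom_eval₂] at this
    rwa [show φ.comp (algebraMap R₀ (FractionRing R₀)) = (algebraMap S₀ L).comp (algebraMap R₀ S₀) from
      RingHom.ext hφ] at this
  obtain ⟨s, hs⟩ := IsIntegrallyClosed.isIntegral_iff.1 hi
  obtain ⟨a, b, hb, rfl⟩ := IsFractionRing.div_surjective (A := R₀) x
  have hb' : algebraMap R₀ (FractionRing R₀) b ≠ 0 := IsFractionRing.to_map_ne_zero_of_mem_nonZeroDivisors hb
  rw [map_div₀, eq_div_iff ((map_ne_zero φ).2 hb'), hφ, hφ, ← map_mul] at hs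
  have hmem : a ∈ Ideal.span {b} := mem_of_mem_map 𝒜 p (by
    rw [Ideal.map_span, Set.image_singleton, Ideal.mem_span_singleton']
    exact ⟨s, IsFractionRing.injective S₀ L hs⟩)
  obtain ⟨y, hy⟩ := Ideal.mem_span_singleton'.1 hmem
  exact ⟨y, by rw [eq_div_iff hb', ← map_mul, hy]⟩

include hf in
theorem hasSk_one (h : LocCoh.HasSk 1 A A) : LocCoh.HasSk 1 R₀ R₀ := by
  haveI : IsNoetherianRing R₀ := isNoetherianRing 𝒜 p
  haveI : IsNoetherianRing S₀ := IsLocalization.isNoetherianRing p.primeCompl S₀ inferInstance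
  rw [hasSk_one_iff_ass] at h ⊢
  intro q hq
  haveI := hq.isPrime
  obtain ⟨-, b, hb⟩ := isAssociatedPrime_iff.1 hq
  have hb0 : algebraMap R₀ S₀ b ≠ 0 := fun h0 => by
    rw [injective_algebraMap.eq_iff' (map_zero _)] at h0
    exact hq.isPrime.ne_top (by rw [hb, h0]; simp)
  obtain ⟨Q, hQ, hle⟩ := exists_le_isAssociatedPrime_of_isNoetherianRing S₀ (algebraMap R₀ S₀ b) hb0
  haveI := hQ.isPrime
  have hqQ : q ≤ Q.comap (algebraMap R₀ S₀) := fun x hx => by
    rw [hb, Submodule.mem_colon_singleton, Submodule.mem_bot, smul_eq_mul] at hx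
    refine hle ?_
    rw [Submodule.mem_colon_singleton, Submodule.mem_bot, smul_eq_mul, ← map_mul, hx, map_zero]
  have hA := h _ (Module.associatedPrimes.comap_mem_associatedPrimes_of_mem_associatedPrimes_of_isLocalizedModule_of_fg
    p.primeCompl (Algebra.linearMap A S₀) Q hQ (IsNoetherian.noetherian _))
  have hmin : ∀ Q' : Ideal S₀, Q'.IsPrime → Q' ≤ Q → Q' = Q := fun Q' hQ' hle' => by
    have h1 : Q'.comap (algebraMap A S₀) = Q.comap (algebraMap A S₀) :=
      le_antisymm (Ideal.comap_mono hle') (hA.2 ⟨Ideal.IsPrime.comap _, bot_le⟩ (Ideal.comap_mono hle'))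
    rw [← IsLocalization.map_under p.primeCompl S₀ Q', ← IsLocalization.map_under p.primeCompl S₀ Q]
    exact congrArg (Ideal.map (algebraMap A S₀)) h1
  refine ⟨⟨inferInstance, bot_le⟩, fun q' hq' hle' => ?_⟩
  haveI := hq'.1
  obtain ⟨P, hP, hPq, hPmin⟩ := exists_lift hf q'
  haveI := hP
  have := hmin P hP (hPmin Q (hle'.trans hqQ))
  subst this
  exact hqQ.trans hPq.le

include hf in
theorem exists_regular (hp : p.IsHomogeneous 𝒜) (n : ℕ) :
    ∀ (I : Ideal R₀), I ≤ maximalIdeal R₀ →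
      LocCoh.IsCohenMacaulayModule S₀ (S₀ ⧸ I.map (algebraMap R₀ S₀)) →
      (n : WithBot ℕ∞) ≤ Module.supportDim S₀ (S₀ ⧸ I.map (algebraMap R₀ S₀)) →
      ∃ rs : List R₀, rs.length = n ∧ (∀ r ∈ rs, r ∈ maximalIdeal R₀) ∧ IsWeaklyRegular (R₀ ⧸ I) rs := by
  haveI : IsNoetherianRing R₀ := isNoetherianRing 𝒜 p
  haveI : IsNoetherianRing S₀ := IsLocalization.isNoetherianRing p.primeCompl S₀ inferInstance
  induction n with
  | zero => exact fun I _ _ _ => ⟨[], rfl, by simp, IsWeaklyRegular.nil R₀ _⟩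
  | succ n ih =>
    intro I hI hCM hn
    let M := S₀ ⧸ I.map (algebraMap R₀ S₀)
    have hfin := associatedPrimes.finite S₀ M
    have hne : ∀ Q ∈ associatedPrimes S₀ M, ¬ maximalIdeal R₀ ≤ Q.comap (algebraMap R₀ S₀) := fun Q hQ hle => by
      haveI := hQ.isPrime
      have hQm := eq_maximalIdeal hf hp hle
      subst hQm
      have h0 := DepthLib.ringKrullDim_quotient_eq_of_mem_associatedPrimes hCM hQ
      rw [ringKrullDim_eq_zero_of_isField ((Ideal.Quotient.maximal_ideal_iff_isField_quotient _).1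
        (maximalIdeal.isMaximal S₀))] at h0
      rw [← h0, ← Nat.cast_zero, Nat.cast_le] at hn
      omega
    obtain ⟨x, hxm, hx⟩ : ∃ x ∈ maximalIdeal R₀, ∀ Q ∈ associatedPrimes S₀ M, algebraMap R₀ S₀ x ∉ Q := by
      by_contra hcon
      push Not at hcon
      have hsub : (maximalIdeal R₀ : Set R₀) ⊆
          ⋃ Q ∈ (hfin.toFinset : Set (Ideal S₀)), (Q.comap (algebraMap R₀ S₀) : Set R₀) := fun x hx => by
        obtain ⟨Q, hQ, hxQ⟩ := hcon x hx
        exact Set.mem_biUnion (by simpa using hQ) hxQ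
      obtain ⟨Q, hQ, hle⟩ := (Ideal.subset_union_prime ⊥ ⊥ fun Q hQ _ _ => by
        haveI := (hfin.mem_toFinset.1 hQ).isPrime
        exact Ideal.IsPrime.comap _).1 hsub
      exact hne Q (hfin.mem_toFinset.1 hQ) hle
    have hregS : IsSMulRegular M (algebraMap R₀ S₀ x) := by
      by_contra hr
      have : algebraMap R₀ S₀ x ∈ ({r : S₀ | IsSMulRegular M r}ᶜ : Set S₀) := hr
      rw [← biUnion_associatedPrimes_eq_compl_regular S₀ M] at this
      obtain ⟨Q, hQ, hxQ⟩ := Set.mem_iUnion₂.1 this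
      exact hx Q hQ hxQ
    have hxS : algebraMap R₀ S₀ x ∈ maximalIdeal S₀ := by
      by_contra hu
      rw [IsLocalRing.notMem_maximalIdeal] at hu
      obtain ⟨y, hy⟩ := hu.exists_left_inv
      have h1 : algebraMap R₀ S₀ 1 ∈ (Ideal.span {x}).map (algebraMap R₀ S₀) := by
        rw [Ideal.map_span, Set.image_singleton, map_one, Ideal.mem_span_singleton']
        exact ⟨y, hy⟩
      exact (maximalIdeal.isMaximal R₀).ne_top ((Ideal.eq_top_iff_one _).2
        ((Ideal.span_singleton_le_iff_mem _).2 hxm (mem_of_mem_map 𝒜 p h1)))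
    let I' := I ⊔ Ideal.span {x}
    let eS : QuotSMulTop (algebraMap R₀ S₀ x) M ≃ₗ[S₀] S₀ ⧸ I'.map (algebraMap R₀ S₀) :=
      (quotSMulEquiv _ _).trans (Submodule.quotEquivOfEq _ _ (by
        rw [Ideal.map_sup, Ideal.map_span, Set.image_singleton]))
    have hCM' : LocCoh.IsCohenMacaulayModule S₀ (S₀ ⧸ I'.map (algebraMap R₀ S₀)) := by
      have h := (DepthLib.isCohenMacaulayModule_quotSMulTop_iff hxS hregS).2 hCM
      unfold LocCoh.IsCohenMacaulayModule LocCoh.depth at h ⊢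
      rwa [← Module.supportDim_eq_of_equiv eS, ← DepthLib.idealDepth_congr eS]
    have hn' : (n : WithBot ℕ∞) ≤ Module.supportDim S₀ (S₀ ⧸ I'.map (algebraMap R₀ S₀)) := by
      rw [← Module.supportDim_eq_of_equiv eS]
      refine DepthLib.withBot_add_coe_cancel 1 ?_
      rw [Nat.cast_one, Module.supportDim_quotSMulTop_succ_eq_supportDim hregS hxS]
      exact_mod_cast hn
    obtain ⟨rs, hlen, hmem, hreg⟩ := ih I' (sup_le hI ((Ideal.span_singleton_le_iff_mem _).2 hxm)) hCM' hn'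
    refine ⟨x :: rs, by simp [hlen], List.forall_mem_cons.2 ⟨hxm, hmem⟩, (isWeaklyRegular_cons_iff _ _ _).2 ⟨?_, ?_⟩⟩
    · rw [isSMulRegular_iff_right_eq_zero_of_smul]
      intro z hz
      obtain ⟨y, rfl⟩ := Ideal.Quotient.mk_surjective z
      rw [Algebra.smul_def, Ideal.Quotient.algebraMap_eq, ← map_mul, Ideal.Quotient.eq_zero_iff_mem] at hz
      rw [Ideal.Quotient.eq_zero_iff_mem]
      refine mem_of_mem_map 𝒜 p (Ideal.Quotient.eq_zero_iff_mem.1 (hregS.right_eq_zero_of_smul ?_))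
      show Ideal.Quotient.mk _ (algebraMap R₀ S₀ x * algebraMap R₀ S₀ y) = 0
      rw [← map_mul, Ideal.Quotient.eq_zero_iff_mem]
      exact Ideal.mem_map_of_mem _ hz
    · exact ((quotSMulEquiv I x).isWeaklyRegular_congr rs).2 hreg

include hf in
theorem isCohenMacaulayLocalRing (hp : p.IsHomogeneous 𝒜) [hS : LocCoh.IsCohenMacaulayLocalRing S₀] :
    LocCoh.IsCohenMacaulayLocalRing R₀ := by
  haveI : IsNoetherianRing R₀ := isNoetherianRing 𝒜 p
  haveI : IsNoetherianRing S₀ := IsLocalization.isNoetherianRing p.primeCompl S₀ inferInstance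
  have hCMS : LocCoh.IsCohenMacaulayModule S₀ S₀ := hS.supportDim_eq_depth
  obtain ⟨d, hd⟩ := DepthLib.exists_supportDim_eq_natCast (R := S₀) (M := S₀)
  let e : S₀ ≃ₗ[S₀] S₀ ⧸ (⊥ : Ideal R₀).map (algebraMap R₀ S₀) :=
    ((Submodule.quotEquivOfEqBot _ Ideal.map_bot)).symm
  obtain ⟨rs, hlen, hmem, hreg⟩ := exists_regular hf hp d ⊥ bot_le
    (by
      unfold LocCoh.IsCohenMacaulayModule LocCoh.depth at hCMS ⊢
      rwa [← Module.supportDim_eq_of_equiv e, ← DepthLib.idealDepth_congr e])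
    (by rw [← Module.supportDim_eq_of_equiv e, hd])
  have h1 : (d : ℕ∞) ≤ LocCoh.depth R₀ R₀ := by
    unfold LocCoh.depth LocCoh.idealDepth
    split_ifs
    · exact le_top
    · exact le_iSup₂_of_le rs ⟨((Submodule.quotEquivOfEqBot _ rfl).isWeaklyRegular_congr rs).1 hreg, hmem⟩
        (by rw [hlen])
  have h2 : ringKrullDim R₀ ≤ ringKrullDim S₀ := by
    choose L hL hLc hLmin using fun q : PrimeSpectrum R₀ => exists_lift hf q.asIdeal
    refine Order.krullDim_le_of_strictMono (fun q => ⟨L q, hL q⟩) fun q q' hlt => ?_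
    haveI := hL q'
    refine lt_of_le_of_ne (hLmin q (L q') (((PrimeSpectrum.asIdeal_le_asIdeal _ _).2 hlt.le).trans (hLc q').ge)) fun heq => hlt.ne ?_
    exact PrimeSpectrum.ext ((hLc q).symm.trans ((congrArg (fun P : PrimeSpectrum S₀ =>
      P.asIdeal.comap (algebraMap R₀ S₀)) heq).trans (hLc q')))
  refine ⟨le_antisymm ?_ DepthLib.depth_le_supportDim⟩
  rw [Module.supportDim_self_eq_ringKrullDim] at hd ⊢
  exact h2.trans (hd.le.trans (WithBot.coe_le_coe.2 h1))

open AlgebraicGeometry in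
theorem exists_pos_notMem {A : Type u} [CommRing A] (𝒜 : ℕ → AddSubgroup A) [GradedRing 𝒜] (x : Proj 𝒜) :
    ∃ d, 0 < d ∧ ∃ f ∈ 𝒜 d, f ∉ x.asHomogeneousIdeal.toIdeal := by
  by_contra h
  push Not at h
  exact x.not_irrelevant_le ((HomogeneousIdeal.irrelevant_le (𝒜 := 𝒜)).2 fun i hi a ha => h i hi a ha)

end Groth.Agent.HomLoc29
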